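import Groth.Agent.SSMod.K122.Plan2
import Groth.Agent.SSMod.K971.SmoothEta
import Groth.Agent.FlatMor.K263.ValEta
import Groth.Agent.FlatMor.K263.ToImage
import Groth.Agent.S0385

/-!
# (L2) Models of finite schemes over the generic fibre

`V` a valuation ring of finite height with algebraically closed fraction field `K`, `B` separated of finite type over
`V` and `P` finite over the generic fibre of `B`, geometrically reduced over `K`. Then `P` is the generic fibre of a
finite `B`-scheme which is flat, locally of finite presentation with geometrically reduced fibres over `V`.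

* `isIso_of_dominant` : a closed immersion into an open subscheme, schematically dominant in the whole, is the open
  subscheme;
* `exists_closure` : `P` is the generic fibre of a finite `B`-scheme (Zariski's main theorem, schematic closure);
* `main` : `K122.Plan2.NormalModel`.
-/

set_option autoImplicit false
universe u
open CategoryTheory CategoryTheory.Limits AlgebraicGeometry

namespace K563.NormModel

/-- A morphism over a monomorphism is the base change of its composite. -/
theorem isPullback_of_mono {P N W : Scheme.{u}} (l : P ⟶ N) (o : N ⟶ W) [Mono o] :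
    IsPullback l (𝟙 P) o (l ≫ o) := by
  refine IsPullback.of_isLimit' ⟨by rw [Category.id_comp]⟩ ?_
  refine PullbackCone.IsLimit.mk _ (fun c => c.snd) ?_ ?_ ?_
  · intro c
    rw [← cancel_mono o, Category.assoc]
    exact c.condition.symm
  · intro c
    exact Category.comp_id _
  · intro c m' hm1 hm2
    rw [← hm2]
    exact (Category.comp_id _).symm

/-- `l : P ⟶ N` a closed immersion, `o : N ⟶ W` an open immersion with `l ≫ o` schematically dominant: `l` is an
isomorphism. -/
theorem isIso_of_dominant {P N W : Scheme.{u}} (l : P ⟶ N) (o : N ⟶ W) [IsClosedImmersion l] [IsOpenImmersion o]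
    (s : P ⟶ W) [QuasiCompact s] [IsSchemeTheoreticallyDominant s] (hs : l ≫ o = s) : IsIso l := by
  subst hs
  have H := isPullback_of_mono l o
  have hdom : IsSchemeTheoreticallyDominant l := IsSchemeTheoreticallyDominant.of_isPullback H.flip
  exact IsClosedImmersion.isIso_of_ker_eq l (𝟙 _) l (Category.comp_id _) (by
    rw [hdom.ker_eq_bot, Scheme.Hom.ker_eq_bot])

/-- An open immersion which is finite is a closed immersion. -/
theorem isClosedImmersion_of_finite {P N : Scheme.{u}} (l : P ⟶ N) [IsFinite l] [Mono l] : IsClosedImmersion l := by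
  rw [IsClosedImmersion.iff_isProper_and_mono]
  exact ⟨inferInstance, inferInstance⟩

section Closure

variable {S U B P : Scheme.{u}} (j : U ⟶ S) [IsOpenImmersion j] [QuasiCompact j] (pB : B ⟶ S) [CompactSpace S]
  [QuasiSeparatedSpace S] [IsSeparated pB] [LocallyOfFiniteType pB] [QuasiCompact pB] (t : P ⟶ U) (β : P ⟶ B)
  (w : β ≫ pB = t ≫ j)

include w in
omit [LocallyOfFiniteType pB] in
/-- `P` is the restriction to `U` of a finite `B`-scheme in which it is schematically dense. -/
theorem exists_closure (hf : IsFinite (pullback.lift β t w : P ⟶ pullback pB j)) :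
    ∃ (W : Scheme.{u}) (π : W ⟶ B) (s : P ⟶ W), IsFinite π ∧ s ≫ π = β ∧ IsPullback s t (π ≫ pB) j ∧
      IsSchemeTheoreticallyDominant s ∧ QuasiCompact s := by
  let l : P ⟶ pullback pB j := pullback.lift β t w
  have hl1 : l ≫ pullback.fst pB j = β := pullback.lift_fst _ _ _
  have hl2 : l ≫ pullback.snd pB j = t := pullback.lift_snd _ _ _
  have hB : CompactSpace B := QuasiCompact.compactSpace_of_compactSpace pB
  have hBs : QuasiSeparatedSpace B := quasiSeparatedSpace_of_quasiSeparated pB
  have hlf : IsFinite l := hf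
  have h1 : LocallyQuasiFinite β := by rw [← hl1]; infer_instance
  have h2 : LocallyOfFiniteType β := by rw [← hl1]; infer_instance
  have h3 : QuasiCompact β := by rw [← hl1]; infer_instance
  have h4 : IsSeparated β := by rw [← hl1]; infer_instance
  obtain ⟨T, i, π₁, hi, hiq, hπ₁, hiπ⟩ := Groth.Agent.S0385.result β
  let W := i.image
  let s : P ⟶ W := i.toImage
  let c : W ⟶ T := i.imageι
  have hsc : s ≫ c = i := i.toImage_imageι
  have hs : IsSchemeTheoreticallyDominant s := K263.ToImage.isSchemeTheoreticallyDominant_toImage i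
  have hsq : QuasiCompact s := inferInstance
  have hsπ : s ≫ c ≫ π₁ = β := by rw [← Category.assoc, hsc, hiπ]
  refine ⟨W, c ≫ π₁, s, inferInstance, hsπ, ?_, hs, hsq⟩
  -- the generic fibre
  let φ : W ⟶ S := (c ≫ π₁) ≫ pB
  have hw : s ≫ φ = t ≫ j := by rw [← Category.assoc, hsπ, w]
  let l₀ : P ⟶ pullback φ j := pullback.lift s t hw
  have e1 : l₀ ≫ pullback.fst φ j = s := pullback.lift_fst _ _ _
  have e2 : l₀ ≫ pullback.snd φ j = t := pullback.lift_snd _ _ _
  -- `P ⟶ T_U` is a closed immersion
  let lT : P ⟶ pullback (π₁ ≫ pB) j := pullback.lift i t (by rw [← Category.assoc, hiπ, w])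
  have f1 : lT ≫ pullback.fst (π₁ ≫ pB) j = i := pullback.lift_fst _ _ _
  have f2 : lT ≫ pullback.snd (π₁ ≫ pB) j = t := pullback.lift_snd _ _ _
  have hlTo : Mono lT := by
    have : Mono (lT ≫ pullback.fst (π₁ ≫ pB) j) := by rw [f1]; infer_instance
    exact mono_of_mono lT (pullback.fst (π₁ ≫ pB) j)
  let q : pullback (π₁ ≫ pB) j ⟶ pullback pB j :=
    pullback.lift (pullback.fst _ _ ≫ π₁) (pullback.snd _ _) (by rw [Category.assoc, pullback.condition])
  have hq : lT ≫ q = l := by
    apply pullback.hom_ext
    · rw [Category.assoc, pullback.lift_fst, ← Category.assoc, f1, hiπ, hl1]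
    · rw [Category.assoc, pullback.lift_snd, f2, hl2]
  have hqs : IsSeparated q := by
    have h5 : q ≫ pullback.fst pB j = pullback.fst (π₁ ≫ pB) j ≫ π₁ := pullback.lift_fst _ _ _
    have h6 : IsSeparated (q ≫ pullback.fst pB j) := by rw [h5]; infer_instance
    exact IsSeparated.of_comp q (pullback.fst pB j)
  have hlTf : IsFinite lT := by
    have : IsFinite (lT ≫ q) := by rw [hq]; exact hlf
    exact IsFinite.of_comp lT q
  have hlTc : IsClosedImmersion lT := isClosedImmersion_of_finite lT
  let r : pullback φ j ⟶ pullback (π₁ ≫ pB) j :=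
    pullback.lift (pullback.fst _ _ ≫ c) (pullback.snd _ _) (by
      rw [Category.assoc, ← pullback.condition]
      simp only [φ, Category.assoc])
  have hr : l₀ ≫ r = lT := by
    apply pullback.hom_ext
    · rw [Category.assoc, pullback.lift_fst, ← Category.assoc, e1, hsc, f1]
    · rw [Category.assoc, pullback.lift_snd, e2, f2]
  have hrs : IsSeparated r := by
    have h5 : r ≫ pullback.fst (π₁ ≫ pB) j = pullback.fst φ j ≫ c := pullback.lift_fst _ _ _
    have h6 : IsSeparated (r ≫ pullback.fst (π₁ ≫ pB) j) := by rw [h5]; infer_instance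
    exact IsSeparated.of_comp r (pullback.fst (π₁ ≫ pB) j)
  have hl₀ : IsClosedImmersion l₀ := by
    have : IsClosedImmersion (l₀ ≫ r) := by rw [hr]; exact hlTc
    exact IsClosedImmersion.of_comp l₀ r
  have hiso : IsIso l₀ := isIso_of_dominant l₀ (pullback.fst φ j) s e1
  exact IsPullback.of_iso (IsPullback.of_hasPullback φ j) (asIso l₀).symm (Iso.refl _) (Iso.refl _) (Iso.refl _)
    (by simp [← e1]) (by simp [← e2]) (by simp [φ]) (by simp)

end Closure

/-- Lift through the spectrum of the local ring. -/
theorem exists_fac_fromSpecStalk {K : Type u} [Field K] {X : Scheme.{u}} (f : Spec (CommRingCat.of K) ⟶ X) (x : X)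
    (hx : f (IsLocalRing.closedPoint K) = x) :
    ∃ g : Spec (CommRingCat.of K) ⟶ Spec (X.presheaf.stalk x), g ≫ X.fromSpecStalk x = f := by
  subst hx
  exact ⟨_, Scheme.Spec_stalkClosedPointTo_fromSpecStalk f⟩

theorem main : K122.Plan2.NormalModel.{u} := by
  intro V _ _ _ _ _ B P pB _ _ _ t β w hfin hred
  have hK : IsOpenImmersion (K122.Plan2.iK V) := K971.SmoothEta.isOpenImmersion_fractionRing V
  obtain ⟨W₀, π₀, s, hπ₀, hsπ, sq, hsd, hsq⟩ := exists_closure (K122.Plan2.iK V) pB t β w hfin
  let φ : W₀ ⟶ Spec (CommRingCat.of V) := π₀ ≫ pB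
  have hV : IsIntegral (Spec (CommRingCat.of V)) := inferInstance
  let η := genericPoint (Spec (CommRingCat.of V))
  have hrange : Set.range (K122.Plan2.iK V) = {η} :=
    K263.ValEta.range_specMap V (FractionRing V) (IsFractionRing.injective V _)
  have hlft : LocallyOfFiniteType φ := inferInstance
  have hη : ∀ (E : Type u) [Field E] (k : Spec (CommRingCat.of E) ⟶ Spec (CommRingCat.of V)),
      Set.range k = {genericPoint (Spec (CommRingCat.of V))} → AlgebraicGeometry.IsReduced (pullback φ k) := by
    intro E _ k hk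
    have hsub : Set.range k ⊆ Set.range (K122.Plan2.iK V) := by rw [hk, hrange]
    let k' := IsOpenImmersion.lift (K122.Plan2.iK V) k hsub
    have hk' : k' ≫ K122.Plan2.iK V = k := IsOpenImmersion.lift_fac _ _ _
    have h1 : AlgebraicGeometry.IsReduced (pullback t k') := (K263.EtaRed.red_iff t).1 hred E k'
    have h2 : IsPullback (pullback.fst t k' ≫ s) (pullback.snd t k') φ k := by
      have := (IsPullback.of_hasPullback t k').paste_horiz sq
      rwa [hk'] at this
    exact isReduced_of_isOpenImmersion h2.isoPullback.inv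
  obtain ⟨W, ψ, hψ, hψη, hfl, hlfp, hWred⟩ := K263.ValEta.etaRed_val V φ hη
  -- the generic fibre
  have hcl : (K122.Plan2.iK V) (IsLocalRing.closedPoint (FractionRing V)) = η := by
    have : (K122.Plan2.iK V) (IsLocalRing.closedPoint (FractionRing V)) ∈ Set.range (K122.Plan2.iK V) := ⟨_, rfl⟩
    rw [hrange] at this
    exact this
  obtain ⟨e, he⟩ := exists_fac_fromSpecStalk (K122.Plan2.iK V) η hcl
  let r₀ : P ⟶ pullback φ ((Spec (CommRingCat.of V)).fromSpecStalk η) :=
    pullback.lift s (t ≫ e) (by rw [Category.assoc, he]; exact sq.w)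
  have h3 : IsIso (pullback.snd ψ s) :=
    K263.EtaRed.isIso_snd_of_factor ψ (pullback.fst φ _) s r₀ (pullback.lift_fst _ _ _) hψη
  let r : P ⟶ W := inv (pullback.snd ψ s) ≫ pullback.fst ψ s
  have hr : IsPullback r (𝟙 P) ψ s := by
    refine IsPullback.of_iso (IsPullback.of_hasPullback ψ s) (asIso (pullback.snd ψ s)) (Iso.refl _) (Iso.refl _)
      (Iso.refl _) ?_ ?_ ?_ ?_
    · simp [r]
    · simp
    · simp
    · simp
  have hr' : IsPullback r t (ψ ≫ φ) (K122.Plan2.iK V) := by
    have := hr.paste_vert sq
    rwa [Category.id_comp] at this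
  have e3 : (ψ ≫ π₀) ≫ pB = ψ ≫ φ := by simp only [φ, Category.assoc]
  refine ⟨W, ψ ≫ π₀, r, inferInstance, ?_, ?_, ?_, ?_, ?_⟩
  · rw [← Category.assoc, hr.w, Category.id_comp, hsπ]
  · rw [e3]; exact hr'
  · rw [e3]; exact hfl
  · rw [e3]; exact hlfp
  · rw [e3]; exact (K263.EtaRed.red_iff _).2 hWred

end K563.NormModel
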